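import Mathlib

/-!
# Poisson summation for Gaussian sums over `ℤ^n`
-/

namespace Cfsg.Agent.Theta24

open Matrix Complex
open scoped Real

/-- Coordinatewise cast of an integer vector to a real vector. -/
def rv {n : ℕ} (x : Fin n → ℤ) : Fin n → ℝ := fun i => (x i : ℝ)

/-- The quadratic form of a real square matrix. -/
noncomputable def quad {n : ℕ} (A : Matrix (Fin n) (Fin n) ℝ) (v : Fin n → ℝ) : ℝ := v ⬝ᵥ (A *ᵥ v)

/-- Positive definiteness in the elementary sense. -/
def QPos {n : ℕ} (A : Matrix (Fin n) (Fin n) ℝ) : Prop := ∀ v : Fin n → ℝ, v ≠ 0 → 0 < quad A v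

theorem summable_int_gauss {δ : ℝ} (hδ : 0 < δ) :
    Summable fun n : ℤ => Real.exp (-δ * (n : ℝ) ^ 2) := by
  have hgeo : Summable fun n : ℕ => Real.exp (-δ) ^ n :=
    summable_geometric_of_lt_one (Real.exp_pos _).le (Real.exp_lt_one_iff.mpr (by linarith))
  have key : Summable fun n : ℕ => Real.exp (-δ * (n : ℝ) ^ 2) := by
    refine Summable.of_nonneg_of_le (fun n => (Real.exp_pos _).le) (fun n => ?_) hgeo
    rw [← Real.exp_nat_mul]
    apply Real.exp_le_exp.mpr
    have : (n : ℝ) ≤ (n : ℝ) ^ 2 := by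
      rcases Nat.eq_zero_or_pos n with h | h
      · simp [h]
      · exact le_self_pow₀ (by exact_mod_cast h) (by norm_num)
    nlinarith
  refine Summable.of_nat_of_neg (by simpa using key) ?_
  simpa using key

theorem summable_pi_gauss {δ : ℝ} (hδ : 0 < δ) : ∀ n : ℕ,
    Summable fun x : Fin n → ℤ => Real.exp (-δ * ∑ i, (x i : ℝ) ^ 2) := by
  intro n
  induction n with
  | zero => exact Summable.of_finite
  | succ n ih =>
    rw [← (Fin.consEquiv (fun _ : Fin (n + 1) => ℤ)).summable_iff]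
    have h := (summable_int_gauss hδ).mul_of_nonneg ih (fun _ => (Real.exp_pos _).le)
      (fun _ => (Real.exp_pos _).le)
    refine h.congr fun p => ?_
    simp only [Function.comp_apply, Fin.consEquiv_apply, Fin.sum_univ_succ, Fin.cons_zero,
      Fin.cons_succ, mul_add, Real.exp_add]

theorem quad_sub_smul {n : ℕ} {A : Matrix (Fin n) (Fin n) ℝ} (hA : A.IsSymm) (t : ℝ)
    (v w : Fin n → ℝ) :
    quad A (v - t • w) = quad A v - 2 * t * (v ⬝ᵥ (A *ᵥ w)) + t ^ 2 * quad A w := by
  have hswap : w ⬝ᵥ (A *ᵥ v) = v ⬝ᵥ (A *ᵥ w) := by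
    rw [dotProduct_mulVec, ← mulVec_transpose, hA.eq, dotProduct_comm]
  simp only [quad, mulVec_sub, mulVec_smul, dotProduct_sub, sub_dotProduct, smul_dotProduct,
    dotProduct_smul, smul_eq_mul, hswap]
  ring

/-- A positive form with an inverse dominates a multiple of the sum of squares. -/
theorem exists_lower_bound {n : ℕ} {A C : Matrix (Fin n) (Fin n) ℝ} (hA : A.IsSymm)
    (hpos : QPos A) (hAC : A * C = 1) :
    ∃ δ : ℝ, 0 < δ ∧ ∀ v : Fin n → ℝ, δ * ∑ i, (v i) ^ 2 ≤ quad A v := by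
  have hnn : ∀ v, 0 ≤ quad A v := fun v => by
    rcases eq_or_ne v 0 with rfl | hv
    · simp [quad]
    · exact (hpos v hv).le
  set S : ℝ := 1 + ∑ i, |C i i| with hS
  have hSpos : 0 < S := by positivity
  refine ⟨1 / (S * (n + 1)), by positivity, fun v => ?_⟩
  have key : ∀ i, (v i) ^ 2 ≤ S * quad A v := by
    intro i
    set w : Fin n → ℝ := C *ᵥ Pi.single i 1 with hw
    have hAw : A *ᵥ w = Pi.single i 1 := by rw [hw, mulVec_mulVec, hAC, one_mulVec]
    have h1 : v ⬝ᵥ (A *ᵥ w) = v i := by rw [hAw, dotProduct_single, mul_one]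
    have h2 : quad A w = C i i := by
      rw [quad, hAw, dotProduct_single, mul_one, hw, mulVec_single_one]; rfl
    have h0 := hnn (v - (v i / S) • w)
    rw [quad_sub_smul hA, h1, h2] at h0
    have hCS : C i i ≤ S := by
      have := Finset.single_le_sum (fun j _ => abs_nonneg (C j j)) (Finset.mem_univ i)
      have := le_abs_self (C i i)
      linarith
    have h3 : (v i / S) ^ 2 * C i i ≤ (v i / S) ^ 2 * S :=
      mul_le_mul_of_nonneg_left hCS (sq_nonneg _)
    have h4 : (v i / S) ^ 2 * S = (v i) ^ 2 / S := by field_simp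
    have h5 : 2 * (v i / S) * v i = 2 * ((v i) ^ 2 / S) := by ring
    have h6 : (v i) ^ 2 / S ≤ quad A v := by linarith
    rw [div_le_iff₀ hSpos] at h6
    linarith
  have hsum : ∑ i, (v i) ^ 2 ≤ (n : ℝ) * (S * quad A v) := by
    refine (Finset.sum_le_sum fun i _ => key i).trans (le_of_eq ?_)
    simp
  rw [div_mul_eq_mul_div, one_mul, div_le_iff₀ (by positivity)]
  have hq := hnn v
  nlinarith [mul_nonneg hSpos.le hq]

theorem summable_shift {n : ℕ} {A C : Matrix (Fin n) (Fin n) ℝ} (hA : A.IsSymm)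
    (hpos : QPos A) (hAC : A * C = 1) {t : ℝ} (ht : 0 < t) (b : Fin n → ℝ) :
    Summable fun x : Fin n → ℤ => Real.exp (-π * t * quad A (rv x - b)) := by
  obtain ⟨δ, hδ, hb⟩ := exists_lower_bound hA hpos hAC
  have hsum := (summable_pi_gauss (δ := π * t * δ / 2) (by positivity) n).mul_left
    (Real.exp (π * t * δ * ∑ i, (b i) ^ 2))
  refine Summable.of_nonneg_of_le (fun _ => (Real.exp_pos _).le) (fun x => ?_) hsum
  rw [← Real.exp_add]
  apply Real.exp_le_exp.mpr
  have h1 : (∑ i, (x i : ℝ) ^ 2) / 2 - ∑ i, (b i) ^ 2 ≤ ∑ i, ((rv x - b) i) ^ 2 := by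
    rw [Finset.sum_div, ← Finset.sum_sub_distrib]
    refine Finset.sum_le_sum fun i _ => ?_
    simp only [Pi.sub_apply, rv]
    nlinarith [sq_nonneg ((x i : ℝ) - 2 * b i)]
  have h3 : π * t * (δ * ((∑ i, (x i : ℝ) ^ 2) / 2 - ∑ i, (b i) ^ 2)) ≤
      π * t * quad A (rv x - b) :=
    mul_le_mul_of_nonneg_left ((mul_le_mul_of_nonneg_left h1 hδ.le).trans (hb _)) (by positivity)
  linarith

theorem summable_quad {n : ℕ} {A C : Matrix (Fin n) (Fin n) ℝ} (hA : A.IsSymm)
    (hpos : QPos A) (hAC : A * C = 1) {t : ℝ} (ht : 0 < t) :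
    Summable fun x : Fin n → ℤ => Real.exp (-π * t * quad A (rv x)) := by
  simpa using summable_shift hA hpos hAC ht 0

theorem inv_isSymm {n : ℕ} {A C : Matrix (Fin n) (Fin n) ℝ} (hA : A.IsSymm) (hAC : A * C = 1) :
    C.IsSymm := by
  have h : Cᵀ * A = 1 := by
    have := congrArg Matrix.transpose hAC
    rwa [transpose_mul, transpose_one, hA.eq] at this
  exact left_inv_eq_right_inv h hAC

theorem inv_qpos {n : ℕ} {A C : Matrix (Fin n) (Fin n) ℝ} (hpos : QPos A) (hAC : A * C = 1) :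
    QPos C := by
  intro v hv
  have hw : A *ᵥ (C *ᵥ v) = v := by rw [mulVec_mulVec, hAC, one_mulVec]
  have hne : C *ᵥ v ≠ 0 := fun h => hv (by rw [← hw, h, mulVec_zero])
  have := hpos _ hne
  rwa [quad, hw, dotProduct_comm] at this

/-- One-variable Poisson summation for a shifted, twisted Gaussian. -/
theorem poisson_one {a : ℝ} (ha : 0 < a) (s b : ℝ) :
    ∑' k : ℤ, cexp (-π * a * ((k : ℂ) + s) ^ 2 + 2 * π * I * b * k) =
      (1 / Real.sqrt a : ℝ) *
        ∑' y : ℤ, cexp (-π / a * ((y : ℂ) - b) ^ 2 + 2 * π * I * ((y : ℂ) - b) * s) := by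
  have h := Complex.tsum_exp_neg_quadratic (a := (a : ℂ)) (by simpa using ha) (I * b - a * s)
  have hsq : (a : ℂ) ^ (1 / 2 : ℂ) = (Real.sqrt a : ℂ) := by
    rw [Real.sqrt_eq_rpow, ofReal_cpow ha.le]; norm_num
  have hL : ∀ k : ℤ, cexp (-π * a * ((k : ℂ) + s) ^ 2 + 2 * π * I * b * k) =
      cexp (-π * a * s ^ 2) *
        cexp (-π * (a : ℂ) * (k : ℂ) ^ 2 + 2 * π * (I * b - a * s) * k) := by
    intro k; rw [← Complex.exp_add]; congr 1; ring
  have ha' : (a : ℂ) ≠ 0 := by exact_mod_cast ha.ne'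
  have hR : ∀ y : ℤ, cexp (-π / a * ((y : ℂ) - b) ^ 2 + 2 * π * I * ((y : ℂ) - b) * s) =
      cexp (-π * a * s ^ 2) * cexp (-π / (a : ℂ) * ((y : ℂ) + I * (I * b - a * s)) ^ 2) := by
    intro y; rw [← Complex.exp_add]; congr 1
    field_simp
    linear_combination ((b : ℂ) * y * 2 + (b : ℂ) ^ 2 * (I ^ 2 - 1) + a ^ 2 * s ^ 2
      - 2 * I * a * b * s) * I_sq
  simp only [hL, hR, tsum_mul_left, h, hsq]
  push_cast
  ring

section Step

variable {n : ℕ} (A : Matrix (Fin (n + 1)) (Fin (n + 1)) ℝ)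

/-- The first row without its first entry. -/
def crow : Fin n → ℝ := fun i => A 0 i.succ

/-- The Schur complement with respect to the first coordinate. -/
noncomputable def schur : Matrix (Fin n) (Fin n) ℝ :=
  of fun i j => A i.succ j.succ - crow A i * crow A j / A 0 0

variable {A}

theorem schur_isSymm (hA : A.IsSymm) : (schur A).IsSymm := by
  ext i j
  simp only [transpose_apply, schur, of_apply, crow, hA.apply i.succ j.succ, mul_comm]

theorem pivot_pos (hpos : QPos A) : 0 < A 0 0 := by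
  have h := hpos (Pi.single 0 1) (fun h => by simpa using congrFun h 0)
  simpa [quad, mulVec_single_one] using h

theorem schur_mulVec (hA : A.IsSymm) (w' : Fin n → ℝ) (i : Fin n) :
    (schur A *ᵥ w') i = (∑ j, A i.succ j.succ * w' j) - A i.succ 0 * (crow A ⬝ᵥ w') / A 0 0 := by
  simp only [mulVec, dotProduct, schur, of_apply, Finset.mul_sum, Finset.sum_div,
    ← Finset.sum_sub_distrib]
  refine Finset.sum_congr rfl fun j _ => ?_
  simp only [crow, hA.apply 0 i.succ]
  ring

theorem quad_cons (hA : A.IsSymm) (ha : A 0 0 ≠ 0) (v0 : ℝ) (v : Fin n → ℝ) :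
    quad A (Fin.cons v0 v) =
      A 0 0 * (v0 + (crow A ⬝ᵥ v) / A 0 0) ^ 2 + quad (schur A) v := by
  have h1 : ∀ i : Fin n, (A *ᵥ Fin.cons v0 v) i.succ =
      A i.succ 0 * v0 + A i.succ 0 * (crow A ⬝ᵥ v) / A 0 0 + (schur A *ᵥ v) i := by
    intro i
    rw [schur_mulVec hA]
    simp only [mulVec, dotProduct, Fin.sum_univ_succ, Fin.cons_zero, Fin.cons_succ]
    ring
  have h0 : (A *ᵥ Fin.cons v0 v) 0 = A 0 0 * v0 + crow A ⬝ᵥ v := by
    simp [mulVec, dotProduct, Fin.sum_univ_succ, crow]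
  have hswap : ∑ i, v i * A i.succ 0 = crow A ⬝ᵥ v := by
    refine Finset.sum_congr rfl fun i _ => ?_
    simp only [crow, hA.apply 0 i.succ]; ring
  have h2 : quad A (Fin.cons v0 v) =
      v0 * (A 0 0 * v0 + crow A ⬝ᵥ v) +
      ((∑ i, v i * A i.succ 0) * (v0 + (crow A ⬝ᵥ v) / A 0 0) + quad (schur A) v) := by
    rw [quad, dotProduct, Fin.sum_univ_succ]
    simp only [Fin.cons_zero, Fin.cons_succ, h0, h1]
    congr 1
    generalize crow A ⬝ᵥ v = c
    rw [quad, Finset.sum_mul, dotProduct, ← Finset.sum_add_distrib]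
    refine Finset.sum_congr rfl fun i _ => ?_
    ring
  rw [h2, hswap]
  field_simp
  ring

theorem schur_qpos (hA : A.IsSymm) (hpos : QPos A) : QPos (schur A) := by
  intro v hv
  have ha := pivot_pos hpos
  have h := hpos (Fin.cons (-(crow A ⬝ᵥ v) / A 0 0) v)
    (fun h => hv (funext fun i => by simpa using congrFun h i.succ))
  rw [quad_cons hA ha.ne'] at h
  simpa [neg_div] using h

theorem schur_mul_sub (hA : A.IsSymm) {C : Matrix (Fin (n + 1)) (Fin (n + 1)) ℝ}
    (ha : A 0 0 ≠ 0) (hAC : A * C = 1) : schur A * C.submatrix Fin.succ Fin.succ = 1 := by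
  ext i j
  have e1 := congrFun (congrFun hAC i.succ) j.succ
  have e0 := congrFun (congrFun hAC 0) j.succ
  simp only [mul_apply, Fin.sum_univ_succ, one_apply, Fin.succ_inj] at e1 e0
  rw [if_neg (Fin.succ_ne_zero j).symm] at e0
  simp only [mul_apply, schur, of_apply, submatrix_apply, sub_mul, Finset.sum_sub_distrib,
    one_apply]
  have e2 : ∑ k, crow A i * crow A k / A 0 0 * C k.succ j.succ =
      crow A i / A 0 0 * ∑ k : Fin n, A 0 k.succ * C k.succ j.succ := by
    rw [Finset.mul_sum]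
    refine Finset.sum_congr rfl fun k _ => ?_
    simp only [crow]; ring
  rw [e2, ← e1]
  have e0' : ∑ k : Fin n, A 0 k.succ * C k.succ j.succ = - (A 0 0 * C 0 j.succ) := by linarith
  rw [e0', crow, hA.apply i.succ 0]
  field_simp
  ring

theorem quad_inv_cons (hA : A.IsSymm) (ha : A 0 0 ≠ 0)
    {C : Matrix (Fin (n + 1)) (Fin (n + 1)) ℝ} (hAC : A * C = 1) (u0 : ℝ) (u : Fin n → ℝ) :
    quad C (Fin.cons u0 u) =
      u0 ^ 2 / A 0 0 + quad (C.submatrix Fin.succ Fin.succ) (u - (u0 / A 0 0) • crow A) := by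
  obtain ⟨w, hw, hCu⟩ : ∃ w : Fin (n + 1) → ℝ, A *ᵥ w = Fin.cons u0 u ∧ C *ᵥ Fin.cons u0 u = w :=
    ⟨_, by rw [mulVec_mulVec, hAC, one_mulVec], rfl⟩
  obtain ⟨w0, w', rfl⟩ : ∃ (w0 : ℝ) (w' : Fin n → ℝ), w = Fin.cons w0 w' :=
    ⟨w 0, Fin.tail w, (Fin.cons_self_tail w).symm⟩
  have h0 : u0 = A 0 0 * w0 + crow A ⬝ᵥ w' := by
    have := congrFun hw 0
    simpa [mulVec, dotProduct, Fin.sum_univ_succ, crow] using this.symm
  have h' : u - (u0 / A 0 0) • crow A = schur A *ᵥ w' := by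
    funext i
    have := congrFun hw i.succ
    simp only [mulVec, dotProduct, Fin.sum_univ_succ, Fin.cons_zero, Fin.cons_succ] at this
    simp only [schur_mulVec hA, Pi.sub_apply, Pi.smul_apply, smul_eq_mul, ← this, h0, crow,
      hA.apply i.succ 0]
    field_simp
    ring
  have hSC : C.submatrix Fin.succ Fin.succ * schur A = 1 :=
    mul_eq_one_comm.mp (schur_mul_sub hA ha hAC)
  have hq : quad C (Fin.cons u0 u) = quad A (Fin.cons w0 w') := by
    rw [quad, quad, hCu, hw, dotProduct_comm]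
  rw [hq, quad_cons hA ha, h', h0]
  simp only [quad, mulVec_mulVec, hSC, one_mulVec, dotProduct_comm (schur A *ᵥ w')]
  field_simp

end Step

theorem norm_cexp_neg_pi (x : ℝ) (y : ℝ) :
    ‖cexp ((x : ℂ) + 2 * π * I * (y : ℂ))‖ = Real.exp x := by
  rw [Complex.norm_exp]
  congr 1
  simp

/-- Poisson summation for twisted Gaussian sums on `ℤ^n`, with one constant for all scalings. -/
theorem poisson_pi : ∀ (n : ℕ) (A C : Matrix (Fin n) (Fin n) ℝ), A.IsSymm → QPos A → A * C = 1 →
    ∃ K : ℝ, 0 < K ∧ ∀ t : ℝ, 0 < t → ∀ b : Fin n → ℝ,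
      ∑' x : Fin n → ℤ, cexp ((-π * t * quad A (rv x) : ℝ) + 2 * π * I * ((b ⬝ᵥ rv x : ℝ) : ℂ)) =
        (K / Real.sqrt t ^ n : ℝ) *
          ∑' y : Fin n → ℤ, cexp ((-π * t⁻¹ * quad C (rv y - b) : ℝ) : ℂ) := by
  intro n
  induction n with
  | zero =>
    intro A C _ _ _
    refine ⟨1, one_pos, fun t _ b => ?_⟩
    simp [tsum_fintype, quad, dotProduct]
  | succ n ih =>
    intro A C hA hpos hAC
    have ha := pivot_pos hpos
    set a := A 0 0 with hadef
    have hA' := schur_isSymm hA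
    have hpos' := schur_qpos hA hpos
    have hAC' := schur_mul_sub hA ha.ne' hAC
    set A' := schur A
    set C' := C.submatrix Fin.succ Fin.succ
    obtain ⟨K, hK, hIH⟩ := ih A' C' hA' hpos' hAC'
    refine ⟨K / Real.sqrt a, by positivity, fun t ht b => ?_⟩
    have hta : 0 < t * a := mul_pos ht ha
    set e := Fin.consEquiv (fun _ : Fin (n + 1) => ℤ) with he
    have hrv : ∀ (k : ℤ) (x : Fin n → ℤ), rv (e (k, x)) = Fin.cons (k : ℝ) (rv x) := by
      intro k x; funext i; cases i using Fin.cases <;> simp [rv, he]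
    have hbdot : ∀ (k : ℤ) (x : Fin n → ℤ),
        b ⬝ᵥ rv (e (k, x)) = b 0 * k + Fin.tail b ⬝ᵥ rv x := by
      intro k x; rw [hrv]; simp [dotProduct, Fin.sum_univ_succ, Fin.tail]
    set F : (Fin (n + 1) → ℤ) → ℂ := fun x =>
      cexp ((-π * t * quad A (rv x) : ℝ) + 2 * π * I * ((b ⬝ᵥ rv x : ℝ) : ℂ))
    have hF : Summable F := by
      refine Summable.of_norm ?_
      simpa only [F, norm_cexp_neg_pi] using summable_quad hA hpos hAC ht
    -- the middle double sum
    set M : (Fin n → ℤ) × ℤ → ℂ := fun p =>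
      cexp ((-π * (t * a)⁻¹ * ((p.2 : ℝ) - b 0) ^ 2 : ℝ) : ℂ) *
        cexp ((-π * t * quad A' (rv p.1) : ℝ) +
          2 * π * I * (((Fin.tail b + (((p.2 : ℝ) - b 0) / a) • crow A) ⬝ᵥ rv p.1 : ℝ) : ℂ))
    have hMs : Summable M := by
      refine Summable.of_norm ?_
      have h1 : Summable fun y : ℤ => Real.exp (-π * (t * a)⁻¹ * ((y : ℝ) - b 0) ^ 2) := by
        have := summable_shift (A := (1 : Matrix (Fin 1) (Fin 1) ℝ)) (C := 1)
          Matrix.isSymm_one (fun v hv => ?_) (one_mul 1) (t := (t * a)⁻¹) (by positivity)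
          (fun _ => b 0)
        · rw [← (Equiv.funUnique (Fin 1) ℤ).symm.summable_iff] at this
          refine this.congr fun y => ?_
          simp [quad, rv, dotProduct, sq]
        · have hv0 : v 0 ≠ 0 := fun h => hv (funext fun i => by rw [Subsingleton.elim i 0, h]; rfl)
          simpa [quad, dotProduct] using mul_self_pos.mpr hv0
      have h2 := (summable_quad hA' hpos' hAC' ht).mul_of_nonneg h1
        (fun _ => (Real.exp_pos _).le) (fun _ => (Real.exp_pos _).le)
      refine h2.congr fun p => ?_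
      simp only [M, norm_mul, norm_cexp_neg_pi, norm_exp_ofReal]
      ring
    have step1 : ∑' x, F x = (1 / Real.sqrt (t * a) : ℝ) * ∑' x : Fin n → ℤ, ∑' y : ℤ, M (x, y) := by
      have hFe : Summable fun p : ℤ × (Fin n → ℤ) => F (e p) := e.summable_iff.mpr hF
      rw [← e.tsum_eq, hFe.tsum_prod,
        ← Summable.tsum_comm (f := fun k x => F (e (k, x))) hFe, ← tsum_mul_left]
      refine tsum_congr fun x => ?_
      have hp := poisson_one hta ((crow A ⬝ᵥ rv x) / a) (b 0)
      have hl : ∀ k : ℤ, (F ∘ e) (k, x) =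
          cexp ((-π * t * quad A' (rv x) : ℝ) + 2 * π * I * ((Fin.tail b ⬝ᵥ rv x : ℝ) : ℂ)) *
          cexp (-π * ((t * a : ℝ) : ℂ) * ((k : ℂ) + ((crow A ⬝ᵥ rv x) / a : ℝ)) ^ 2 +
            2 * π * I * (b 0 : ℂ) * k) := by
        intro k
        simp only [Function.comp_apply, F, hbdot]
        rw [hrv, quad_cons hA ha.ne', ← hadef, ← Complex.exp_add]
        congr 1
        push_cast
        ring
      simp only [Function.comp_apply] at hl ⊢
      simp only [hl, tsum_mul_left, hp, M]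
      rw [mul_left_comm, ← tsum_mul_left]
      congr 1
      refine tsum_congr fun y => ?_
      simp only [← Complex.exp_add, add_dotProduct, smul_dotProduct, smul_eq_mul]
      congr 1
      push_cast
      ring
    rw [step1, ← Summable.tsum_comm (f := fun x y => M (x, y)) hMs]
    have step2 : ∀ y : ℤ, ∑' x : Fin n → ℤ, M (x, y) = (K / Real.sqrt t ^ n : ℝ) *
        ∑' y' : Fin n → ℤ, cexp ((-π * t⁻¹ * quad C (rv (e (y, y')) - b) : ℝ) : ℂ) := by
      intro y
      simp only [M]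
      rw [tsum_mul_left, hIH t ht, mul_left_comm, ← tsum_mul_left]
      congr 1
      refine tsum_congr fun y' => ?_
      have hcons : rv (e (y, y')) - b = Fin.cons ((y : ℝ) - b 0) (rv y' - Fin.tail b) := by
        rw [hrv]; funext i; cases i using Fin.cases <;> simp [Fin.tail]
      rw [hcons, quad_inv_cons hA ha.ne' hAC, ← hadef, sub_sub, ← Complex.exp_add]
      congr 1
      push_cast
      field_simp
      ring
    simp only [step2, tsum_mul_left]
    have hCs := summable_shift (inv_isSymm hA hAC) (inv_qpos hpos hAC) (mul_eq_one_comm.mp hAC)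
      (inv_pos.mpr ht) b
    have hCsC : Summable fun p : ℤ × (Fin n → ℤ) =>
        cexp ((-π * t⁻¹ * quad C (rv (e p) - b) : ℝ) : ℂ) := by
      refine Summable.of_norm ?_
      simp only [norm_exp_ofReal]
      exact e.summable_iff.mpr hCs
    rw [← e.tsum_eq (fun y => cexp ((-π * t⁻¹ * quad C (rv y - b) : ℝ) : ℂ)), hCsC.tsum_prod,
      ← mul_assoc, ← ofReal_mul]
    congr 2
    rw [Real.sqrt_mul ht.le, pow_succ]
    field_simp

end Cfsg.Agent.Theta24
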