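import Mathlib
import Cfsg.Agent.Theta24.Gauss

/-!
# Theta series of even unimodular lattices of rank 24
-/

namespace Cfsg.Agent.Theta24

open Matrix Complex Filter Topology ModularForm MatrixGroups EisensteinSeries
open UpperHalfPlane hiding I
open scoped Real

local notation "L24" => Fin 24 → ℤ

/-- The integral quadratic form. -/
def iq (B : Matrix (Fin 24) (Fin 24) ℤ) (x : L24) : ℤ := x ⬝ᵥ (B *ᵥ x)

/-- Even, unimodular, positive definite. -/
structure EvenUnimod (B : Matrix (Fin 24) (Fin 24) ℤ) : Prop where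
  symm : B.IsSymm
  posInt : ∀ x : L24, x ≠ 0 → 0 < iq B x
  even : ∀ x : L24, (2 : ℤ) ∣ iq B x
  det : B.det = 1

variable {B : Matrix (Fin 24) (Fin 24) ℤ}

/-- The real matrix. -/
noncomputable def realMat (B : Matrix (Fin 24) (Fin 24) ℤ) : Matrix (Fin 24) (Fin 24) ℝ :=
  B.map (Int.cast)

theorem quad_realMat (B : Matrix (Fin 24) (Fin 24) ℤ) (x : L24) :
    quad (realMat B) (rv x) = (iq B x : ℝ) := by
  simp only [quad, realMat, iq, rv, dotProduct, mulVec, Matrix.map_apply, Int.cast_sum,
    Int.cast_mul]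

theorem realMat_mul_adj (h : EvenUnimod B) : realMat B * realMat B.adjugate = 1 := by
  have h1 : B * B.adjugate = 1 := by rw [mul_adjugate, h.det, one_smul]
  have h2 := congrArg (fun M => (Int.castRingHom ℝ).mapMatrix M) h1
  simpa only [map_mul, map_one] using! h2

theorem realMat_isSymm (h : EvenUnimod B) : (realMat B).IsSymm := h.symm.map _

theorem realMat_qpos (h : EvenUnimod B) : QPos (realMat B) := by
  -- nonnegative, by approximation from the integers, and nondegenerate
  have hnn : ∀ v : Fin 24 → ℝ, 0 ≤ quad (realMat B) v := by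
    intro v
    have hc : Continuous fun w : Fin 24 → ℝ => quad (realMat B) w := by
      unfold quad; fun_prop
    have hlim : Tendsto (fun N : ℕ => fun i => (⌊(N : ℝ) * v i⌋ : ℝ) / N) atTop (𝓝 v) := by
      rw [tendsto_pi_nhds]
      intro i
      have hle : ∀ N : ℕ, ‖(⌊(N : ℝ) * v i⌋ : ℝ) / N - v i‖ ≤ 1 / N + if N = 0 then |v i| else 0 := by
        intro N
        rcases Nat.eq_zero_or_pos N with rfl | hN
        · simp
        · have hN' : (0 : ℝ) < N := by exact_mod_cast hN
          rw [if_neg hN.ne', add_zero, Real.norm_eq_abs, div_sub' hN'.ne', abs_div, abs_of_pos hN']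
          gcongr
          rw [abs_le]
          constructor <;> linarith [Int.floor_le ((N : ℝ) * v i), Int.lt_floor_add_one ((N : ℝ) * v i)]
      rw [tendsto_iff_norm_sub_tendsto_zero]
      refine squeeze_zero (fun _ => norm_nonneg _) hle ?_
      refine (tendsto_const_div_atTop_nhds_zero_nat 1).congr' ?_
      filter_upwards [eventually_gt_atTop 0] with N hN
      simp [hN.ne']
    refine ge_of_tendsto (hc.tendsto v |>.comp hlim) ?_
    filter_upwards [eventually_gt_atTop 0] with N hN
    have : (fun i => (⌊(N : ℝ) * v i⌋ : ℝ) / N) = (1 / (N : ℝ)) • rv (fun i => ⌊(N : ℝ) * v i⌋) := by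
      funext i; simp [rv, div_eq_inv_mul]
    simp only [Function.comp_apply]
    rw [this, quad, mulVec_smul, dotProduct_smul, smul_dotProduct, ← quad, quad_realMat]
    simp only [smul_eq_mul]
    have h0 : (0 : ℤ) ≤ iq B (fun i => ⌊(N : ℝ) * v i⌋) := by
      rcases eq_or_ne (fun i => ⌊(N : ℝ) * v i⌋) 0 with h0 | h0
      · simp [iq, h0]
      · exact (h.posInt _ h0).le
    have h0' : (0 : ℝ) ≤ (iq B (fun i => ⌊(N : ℝ) * v i⌋) : ℝ) := by exact_mod_cast h0
    positivity
  intro v hv
  refine lt_of_le_of_ne (hnn v) fun hv0 => hv ?_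
  have hAv : realMat B *ᵥ v = 0 := by
    funext i
    set w : Fin 24 → ℝ := Pi.single i 1 with hw
    have key : ∀ s : ℝ, 0 ≤ -2 * s * (v ⬝ᵥ (realMat B *ᵥ w)) + s ^ 2 * quad (realMat B) w := by
      intro s
      have := hnn (v - s • w)
      rw [quad_sub_smul (realMat_isSymm h), ← hv0] at this
      linarith
    have hz : v ⬝ᵥ (realMat B *ᵥ w) = 0 := by
      set c := v ⬝ᵥ (realMat B *ᵥ w)
      set d := quad (realMat B) w
      have hd : 0 ≤ d := hnn w
      have := key (c / (d + 1))
      have e : -2 * (c / (d + 1)) * c + (c / (d + 1)) ^ 2 * d =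
          -(c / (d + 1)) ^ 2 * (d + 2) := by field_simp; ring
      rw [e] at this
      have h0 : (c / (d + 1)) ^ 2 = 0 := by nlinarith [sq_nonneg (c / (d + 1))]
      have := sq_eq_zero_iff.mp h0
      rcases div_eq_zero_iff.mp this with h | h
      · exact h
      · linarith
    rw [dotProduct_mulVec, ← mulVec_transpose, (realMat_isSymm h).eq, hw, dotProduct_single,
      mul_one] at hz
    simpa using hz
  have := congrArg (fun u => realMat B.adjugate *ᵥ u) hAv
  simpa [mulVec_mulVec, mul_eq_one_comm.mp (realMat_mul_adj h)] using this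

theorem iq_nonneg (h : EvenUnimod B) (x : L24) : 0 ≤ iq B x := by
  rcases eq_or_ne x 0 with rfl | hx
  · simp [iq]
  · exact (h.posInt x hx).le

/-- The theta series as a function on `ℂ`. -/
noncomputable def theta (B : Matrix (Fin 24) (Fin 24) ℤ) (z : ℂ) : ℂ :=
  ∑' x : L24, cexp (π * I * z * (iq B x : ℂ))

theorem norm_term (z : ℂ) (x : L24) :
    ‖cexp (π * I * z * (iq B x : ℂ))‖ = Real.exp (-π * z.im * quad (realMat B) (rv x)) := by
  rw [Complex.norm_exp, quad_realMat]
  congr 1
  simp

theorem theta_summable (h : EvenUnimod B) {z : ℂ} (hz : 0 < z.im) :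
    Summable fun x : L24 => cexp (π * I * z * (iq B x : ℂ)) := by
  refine Summable.of_norm ?_
  simp only [norm_term]
  exact summable_quad (realMat_isSymm h) (realMat_qpos h) (realMat_mul_adj h) hz

theorem theta_differentiableOn (h : EvenUnimod B) :
    DifferentiableOn ℂ (theta B) {z : ℂ | 0 < z.im} := by
  intro z hz
  have hU : IsOpen {w : ℂ | z.im / 2 < w.im} := isOpen_lt continuous_const Complex.continuous_im
  have hd : DifferentiableOn ℂ (theta B) {w : ℂ | z.im / 2 < w.im} := by
    refine differentiableOn_tsum_of_summable_norm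
      (summable_quad (realMat_isSymm h) (realMat_qpos h) (realMat_mul_adj h) (half_pos hz))
      (fun x => by fun_prop) hU fun x w hw => ?_
    rw [norm_term, Real.exp_le_exp]
    have h0 : (0 : ℝ) ≤ quad (realMat B) (rv x) := by
      rw [quad_realMat]; exact_mod_cast iq_nonneg h x
    have hπ := Real.pi_pos
    have : z.im / 2 * quad (realMat B) (rv x) ≤ w.im * quad (realMat B) (rv x) :=
      mul_le_mul_of_nonneg_right (le_of_lt hw) h0
    nlinarith
  have hz' : z.im / 2 < z.im := by linarith [show 0 < z.im from hz]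
  exact (hd.differentiableAt (hU.mem_nhds hz')).differentiableWithinAt

theorem theta_imag (h : EvenUnimod B) {t : ℝ} (ht : 0 < t) :
    theta B (I * t) = ((∑' x : L24, Real.exp (-π * t * quad (realMat B) (rv x)) : ℝ) : ℂ) := by
  rw [ofReal_tsum, theta]
  refine tsum_congr fun x => ?_
  rw [quad_realMat, ofReal_exp]
  congr 1
  push_cast
  linear_combination (π * t * (iq B x : ℂ)) * I_sq

/-- Multiplication by a unimodular matrix. -/
def mulEquiv (h : EvenUnimod B) : L24 ≃ L24 where
  toFun x := B *ᵥ x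
  invFun x := B.adjugate *ᵥ x
  left_inv x := by simp [mulVec_mulVec, adjugate_mul, h.det]
  right_inv x := by simp [mulVec_mulVec, mul_adjugate, h.det]

theorem theta_imag_inv (h : EvenUnimod B) {t : ℝ} (ht : 0 < t) :
    theta B (I * (t⁻¹ : ℝ)) = (t : ℂ) ^ 12 * theta B (I * t) := by
  obtain ⟨K, hK, hP⟩ := poisson_pi 24 (realMat B) (realMat B.adjugate) (realMat_isSymm h)
    (realMat_qpos h) (realMat_mul_adj h)
  set G : ℝ → ℝ := fun s => ∑' x : L24, Real.exp (-π * s * quad (realMat B) (rv x)) with hG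
  have hrv : ∀ x : L24, rv (B *ᵥ x) = realMat B *ᵥ rv x := by
    intro x; funext i; simp [rv, realMat, mulVec, dotProduct]
  have key : ∀ s : ℝ, 0 < s → G s = K / Real.sqrt s ^ 24 * G s⁻¹ := by
    intro s hs
    have := hP s hs 0
    simp only [zero_dotProduct, ofReal_zero, mul_zero, add_zero, sub_zero] at this
    rw [← (mulEquiv h).tsum_eq (fun y => cexp ((-π * s⁻¹ * quad (realMat B.adjugate) (rv y) : ℝ) : ℂ))]
      at this
    have e : ∀ x, quad (realMat B.adjugate) (rv (mulEquiv h x)) = quad (realMat B) (rv x) := by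
      intro x
      show quad _ (rv (B *ᵥ x)) = _
      rw [hrv, quad, mulVec_mulVec, mul_eq_one_comm.mp (realMat_mul_adj h), one_mulVec,
        dotProduct_comm, quad]
    simp only [e, ← ofReal_exp, ← ofReal_tsum, ← ofReal_mul, ofReal_inj] at this
    exact this
  have hG1 : 0 < G 1 :=
    (summable_quad (realMat_isSymm h) (realMat_qpos h) (realMat_mul_adj h) one_pos).tsum_pos
      (fun _ => (Real.exp_pos _).le) 0 (Real.exp_pos _)
  have hK1 : K = 1 := by
    have := key 1 one_pos
    simp only [Real.sqrt_one, one_pow, div_one, inv_one] at this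
    exact mul_right_cancel₀ hG1.ne' (this.symm.trans (one_mul _).symm)
  rw [theta_imag h ht, theta_imag h (inv_pos.mpr ht)]
  have := key t ht
  rw [hK1, show Real.sqrt t ^ 24 = t ^ 12 by
    rw [show (24 : ℕ) = 2 * 12 from rfl, pow_mul, Real.sq_sqrt ht.le]] at this
  change ((G t⁻¹ : ℝ) : ℂ) = (t : ℂ) ^ 12 * ((G t : ℝ) : ℂ)
  generalize G t = g at this ⊢
  generalize G t⁻¹ = g' at this ⊢
  have ht0 : (t : ℂ) ≠ 0 := by exact_mod_cast ht.ne'
  subst this
  push_cast
  field_simp

theorem theta_neg_inv (h : EvenUnimod B) {z : ℂ} (hz : 0 < z.im) :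
    theta B (-z⁻¹) = z ^ 12 * theta B z := by
  set U : Set ℂ := {z : ℂ | 0 < z.im} with hU
  have hUo : IsOpen U := isOpen_lt continuous_const Complex.continuous_im
  have hmaps : Set.MapsTo (fun w : ℂ => -w⁻¹) U U := by
    intro w hw
    have hw' : (0 : ℝ) < w.im := hw
    have h0 : w ≠ 0 := fun h => by simp [h] at hw'
    have : (-w⁻¹).im = w.im / normSq w := by simp [neg_div]
    show 0 < (-w⁻¹).im
    rw [this]
    exact div_pos hw' (normSq_pos.mpr h0)
  have hne : ∀ w ∈ U, w ≠ 0 := fun w hw h => by simp [hU, h] at hw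
  have hL : AnalyticOnNhd ℂ (fun w => theta B (-w⁻¹)) U :=
    DifferentiableOn.analyticOnNhd ((theta_differentiableOn h).comp
      (differentiableOn_id.inv hne).neg hmaps) hUo
  have hR : AnalyticOnNhd ℂ (fun w => w ^ 12 * theta B w) U :=
    DifferentiableOn.analyticOnNhd ((differentiableOn_id.pow 12).mul (theta_differentiableOn h)) hUo
  have hpc : IsPreconnected U := (convex_halfSpace_im_gt 0).isPreconnected
  have hfreq : ∃ᶠ w in 𝓝[≠] (I : ℂ), theta B (-w⁻¹) = w ^ 12 * theta B w := by
    have hlim : Tendsto (fun n : ℕ => I * ((1 + 1 / ((n : ℝ) + 1) : ℝ) : ℂ)) atTop (𝓝[≠] I) := by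
      refine tendsto_nhdsWithin_iff.mpr ⟨?_, Eventually.of_forall fun n => ?_⟩
      · have h1 : Tendsto (fun n : ℕ => (1 + 1 / ((n : ℝ) + 1) : ℝ)) atTop (𝓝 1) := by
          simpa using (tendsto_one_div_add_atTop_nhds_zero_nat (𝕜 := ℝ)).const_add 1
        simpa using ((continuous_ofReal.tendsto 1).comp h1).const_mul I
      · intro hn
        have := congrArg Complex.im (Set.mem_singleton_iff.mp hn)
        simp at this
        rcases this with h0 | h0 <;> (norm_cast at h0)
    refine hlim.frequently (Eventually.frequently (Eventually.of_forall fun n => ?_))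
    set t : ℝ := 1 + 1 / ((n : ℝ) + 1)
    have ht : 0 < t := by positivity
    have := theta_imag_inv h ht
    have e : -(I * (t : ℂ))⁻¹ = I * ((t⁻¹ : ℝ) : ℂ) := by
      push_cast; rw [mul_inv, inv_I]; ring
    rw [e, this, mul_pow, show (12 : ℕ) = 2 * 6 from rfl, pow_mul I, I_sq]
    norm_num
  exact hL.eqOn_of_preconnected_of_frequently_eq hR hpc (by simp [hU]) hfreq hz

theorem theta_periodic (h : EvenUnimod B) (z : ℂ) : theta B (z + 1) = theta B z := by
  refine tsum_congr fun x => ?_
  obtain ⟨m, hm⟩ := h.even x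
  rw [Complex.exp_eq_exp_iff_exists_int]
  refine ⟨m, ?_⟩
  rw [hm]; push_cast; ring

/-- Half the norm, as a natural number. -/
def halfNorm (B : Matrix (Fin 24) (Fin 24) ℤ) (x : L24) : ℕ := (iq B x / 2).toNat

theorem two_mul_halfNorm (h : EvenUnimod B) (x : L24) : 2 * (halfNorm B x : ℤ) = iq B x := by
  have := iq_nonneg h x
  have := h.even x
  unfold halfNorm
  omega

theorem fiber_finite (h : EvenUnimod B) (m : ℕ) : {x : L24 | halfNorm B x = m}.Finite := by
  have ht := (summable_quad (realMat_isSymm h) (realMat_qpos h) (realMat_mul_adj h)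
    one_pos).tendsto_cofinite_zero
  have hev := ht.eventually_lt_const (Real.exp_pos (-π * 1 * (2 * m)))
  refine (Filter.eventually_cofinite.mp hev).subset fun x hx => ?_
  simp only [Set.mem_setOf_eq] at hx ⊢
  rw [quad_realMat, not_lt, ← two_mul_halfNorm h x, hx]
  push_cast
  exact le_refl _

/-- Representation numbers. -/
noncomputable def rep (B : Matrix (Fin 24) (Fin 24) ℤ) (m : ℕ) : ℕ :=
  {x : L24 | halfNorm B x = m}.ncard

theorem theta_hasSum (h : EvenUnimod B) (τ : ℍ) :
    HasSum (fun m => (rep B m : ℂ) • Function.Periodic.qParam 1 (τ : ℂ) ^ m) (theta B τ) := by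
  have hs := (theta_summable h τ.im_pos).hasSum
  rw [← (Equiv.sigmaFiberEquiv (halfNorm B)).hasSum_iff] at hs
  refine hs.sigma fun m => ?_
  have := (fiber_finite h m).fintype
  have hterm : ∀ x : {x : L24 // halfNorm B x = m},
      cexp (π * I * τ * (iq B x : ℂ)) = Function.Periodic.qParam 1 (τ : ℂ) ^ m := by
    intro x
    rw [Function.Periodic.qParam, ← Complex.exp_nat_mul, ← two_mul_halfNorm h, x.2]
    congr 1
    push_cast
    ring
  haveI : Fintype {x : L24 // halfNorm B x = m} := (fiber_finite h m).fintype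
  convert hasSum_fintype (fun x : {x : L24 // halfNorm B x = m} => cexp (π * I * τ * (iq B x : ℂ)))
    using 1
  · rfl
  · rw [Finset.sum_congr rfl (fun x _ => hterm x), Finset.sum_const, Finset.card_univ, nsmul_eq_mul,
      smul_eq_mul, rep, ← Nat.card_eq_fintype_card]
    rfl

set_option backward.isDefEq.respectTransparency.types false in
theorem theta_slash_S (h : EvenUnimod B) :
    ((fun τ : ℍ => theta B τ) ∣[(12 : ℤ)] ModularGroup.S) = fun τ : ℍ => theta B τ := by
  ext τ
  rw [SL_slash_apply, UpperHalfPlane.modular_S_smul]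
  have : theta B (-(τ : ℂ)⁻¹) * ((τ : ℂ) ^ 12)⁻¹ = theta B τ := by
    rw [theta_neg_inv h τ.im_pos]
    field_simp [τ.ne_zero]
  simpa [denom, ModularGroup.S, inv_neg] using this

set_option backward.isDefEq.respectTransparency.types false in
theorem theta_slash_T (h : EvenUnimod B) :
    ((fun τ : ℍ => theta B τ) ∣[(12 : ℤ)] ModularGroup.T) = fun τ : ℍ => theta B τ := by
  ext τ
  rw [SL_slash_apply, UpperHalfPlane.modular_T_smul]
  have := theta_periodic h (τ : ℂ)
  simpa [denom, ModularGroup.T, add_comm (1 : ℂ)] using this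

/-- The theta series as a modular form. -/
noncomputable def thetaForm (h : EvenUnimod B) : ModularForm 𝒮ℒ 12 where
  toFun τ := theta B τ
  slash_action_eq' A hA := by
    obtain ⟨A, rfl⟩ := hA
    exact SlashInvariantForm.slash_action_generators_SL2Z (theta_slash_S h) (theta_slash_T h) A
  holo' := by
    rw [UpperHalfPlane.mdifferentiable_iff]
    refine (theta_differentiableOn h).congr fun z hz => ?_
    simp [ofComplex_apply_of_im_pos hz]
  bdd_at_cusps' hc := by
    rw [Subgroup.IsArithmetic.isCusp_iff_isCusp_SL2Z] at hc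
    rw [OnePoint.isBoundedAt_iff_forall_SL2Z hc]
    intro γ _
    rw [SlashInvariantForm.slash_action_generators_SL2Z (theta_slash_S h) (theta_slash_T h)]
    exact UpperHalfPlane.isBoundedAtImInfty_of_hasSum_qExpansion one_pos (theta_hasSum h)

theorem thetaForm_coeff (h : EvenUnimod B) (m : ℕ) :
    (qExpansion 1 (thetaForm h)).coeff m = (rep B m : ℂ) :=
  (ModularFormClass.qExpansion_coeff_unique one_pos one_mem_strictPeriods_SL
    (f := thetaForm h) (theta_hasSum h) m).symm

theorem rep_values (h : EvenUnimod B) (h2 : ∀ x, iq B x ≠ 2) :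
    rep B 2 = 196560 ∧ rep B 3 = 16773120 ∧ rep B 4 = 398034000 := by
  have hr0 : rep B 0 = 1 := by
    have : {x : L24 | halfNorm B x = 0} = {0} := by
      ext x
      constructor
      · intro hx
        by_contra h0
        have := h.posInt x h0
        have := two_mul_halfNorm h x
        simp only [Set.mem_setOf_eq] at hx
        omega
      · rintro rfl; simp [halfNorm, iq]
    rw [rep, this, Set.ncard_singleton]
  have hr1 : rep B 1 = 0 := by
    have : {x : L24 | halfNorm B x = 1} = ∅ := by
      ext x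
      simp only [Set.mem_setOf_eq, Set.mem_empty_iff_false, iff_false]
      intro hx
      have := two_mul_halfNorm h x
      rw [hx] at this
      exact h2 x (by simpa using this.symm)
    rw [rep, this, Set.ncard_empty]
  let P4 : ModularForm 𝒮ℒ 12 := ModularForm.mcast (by decide) (E₄.pow 3)
  let P6 : ModularForm 𝒮ℒ 12 := ModularForm.mcast (by decide) (E₆.pow 2)
  set f : ModularForm 𝒮ℒ 12 := thetaForm h - (7 / 12 : ℂ) • P4 - (5 / 12 : ℂ) • P6 with hf
  set p4 := qExpansion 1 (E₄ : ℍ → ℂ) with hp4
  set p6 := qExpansion 1 (E₆ : ℍ → ℂ) with hp6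
  have hq : ∀ m, (qExpansion 1 f).coeff m = (rep B m : ℂ) -
      7 / 12 * (p4 * p4 * p4).coeff m - 5 / 12 * (p6 * p6).coeff m := by
    intro m
    rw [← thetaForm_coeff h, hf, FunLike.coe_sub,
      ModularForm.qExpansion_sub one_pos one_mem_strictPeriods_SL, FunLike.coe_sub,
      ModularForm.qExpansion_sub one_pos one_mem_strictPeriods_SL, FunLike.coe_smul,
      ModularForm.qExpansion_smul one_pos one_mem_strictPeriods_SL, FunLike.coe_smul,
      ModularForm.qExpansion_smul one_pos one_mem_strictPeriods_SL]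
    simp only [hp4, hp6, P4, P6, coe_mcast, map_sub, PowerSeries.coeff_smul, smul_eq_mul,
      ModularForm.qExpansion_pow one_pos one_mem_strictPeriods_SL, pow_succ, pow_zero, one_mul]
  have hb4 : bernoulli 4 = -1 / 30 := by decide +kernel
  have hb6 : bernoulli 6 = 1 / 42 := by decide +kernel
  have c4 : p4.coeff 0 = 1 ∧ p4.coeff 1 = 240 ∧ p4.coeff 2 = 2160 ∧ p4.coeff 3 = 6720 ∧
      p4.coeff 4 = 17520 := by
    simp only [hp4, E_qExpansion_coeff _ ⟨2, rfl⟩]
    have s : ∀ (m v : ℕ), ArithmeticFunction.sigma 3 m = v →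
        ((ArithmeticFunction.sigma 3 m : ℕ) : ℂ) = (v : ℂ) := fun m v hv => by rw [hv]
    rw [show (4 : ℕ) - 1 = 3 from rfl, s 1 1 (by decide +kernel), s 2 9 (by decide +kernel),
      s 3 28 (by decide +kernel), s 4 73 (by decide +kernel), hb4]
    norm_num
  have c6 : p6.coeff 0 = 1 ∧ p6.coeff 1 = -504 ∧ p6.coeff 2 = -16632 ∧ p6.coeff 3 = -122976 ∧
      p6.coeff 4 = -532728 := by
    simp only [hp6, E_qExpansion_coeff _ ⟨3, rfl⟩]
    have s : ∀ (m v : ℕ), ArithmeticFunction.sigma 5 m = v →
        ((ArithmeticFunction.sigma 5 m : ℕ) : ℂ) = (v : ℂ) := fun m v hv => by rw [hv]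
    rw [show (6 : ℕ) - 1 = 5 from rfl, s 1 1 (by decide +kernel), s 2 33 (by decide +kernel),
      s 3 244 (by decide +kernel), s 4 1057 (by decide +kernel), hb6]
    norm_num
  obtain ⟨a0, a1, a2, a3, a4⟩ := c4
  obtain ⟨b0, b1, b2, b3, b4⟩ := c6
  have hzero : f = 0 := by
    refine ModularForm.sturm_bound_levelOne ?_
    have : ((2 : ℕ) : ℕ∞) ≤ (qExpansion 1 f).order := by
      refine PowerSeries.nat_le_order _ _ fun i hi => ?_
      interval_cases i
      · rw [hq]; simp only [PowerSeries.coeff_mul, Finset.Nat.antidiagonal_zero,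
          Finset.sum_singleton, a0, b0, hr0]
        norm_num
      · rw [hq]
        simp [PowerSeries.coeff_mul, Finset.Nat.antidiagonal_succ, a0, a1, b0, b1, hr1,
          -PowerSeries.coeff_zero_eq_constantCoeff]
        norm_num
    refine lt_of_lt_of_le ?_ this
    exact_mod_cast (by decide : (12 : ℤ).toNat / 12 < 2)
  have hall : ∀ m, (rep B m : ℂ) = 7 / 12 * (p4 * p4 * p4).coeff m + 5 / 12 * (p6 * p6).coeff m := by
    intro m
    have := hq m
    rw [hzero] at this
    simp only [FunLike.coe_zero, UpperHalfPlane.qExpansion_zero, map_zero] at this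
    linear_combination -this
  have e2 := hall 2
  have e3 := hall 3
  have e4 := hall 4
  simp [PowerSeries.coeff_mul, Finset.Nat.antidiagonal_succ, a0, a1, a2, a3, a4, b0, b1, b2, b3,
    b4, -PowerSeries.coeff_zero_eq_constantCoeff] at e2 e3 e4
  norm_num at e2 e3 e4
  exact ⟨by exact_mod_cast e2, by exact_mod_cast e3, by exact_mod_cast e4⟩

end Cfsg.Agent.Theta24
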